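import Groth.Agent.StkVal.Closed
import Groth.Agent.AlgStLib.QC
import Groth.Agent.AlgStLib.GerbeProps
import Groth.Agent.AlgStLib.ValLift
import Groth.Agent.AlgStLib.DiagProps
import Groth.Agent.AlgStLib.LocQChart
import Groth.Agent.AlgStLib.StacksEt
import Groth.Agent.QuotShLib.Fppf
import Groth.Agent.ValLib.NoethMain

/-!
# Closed maps over affine schemes from the valuative criterion for stacks
-/

set_option autoImplicit false
set_option backward.isDefEq.respectTransparency false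
set_option backward.isDefEq.respectTransparency.types false
universe u

noncomputable section

namespace Groth.Agent.StkVal

open CategoryTheory CategoryTheory.Limits AlgebraicGeometry Opposite Groth.Agent.FibCatRep TensorProduct
  Groth.Agent.FibCat2Misc Groth.Agent.AlgSpLib Groth.Agent.StkBasic Groth.Agent.AlgStLib Groth.Agent.ValLib
open _root_.AlgSp _root_.AlgSt

variable {S : Scheme.{u}} {𝒳 𝒴 : AlgSt.Cat S}

local notation "ASe" => IsAlgStack Scheme.etalePrecoverage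

/-- slices are algebraic stacks for the etale topology -/
theorem isAlgStack_overCat_etale (U : Over S) : ASe (FibCat.overCat U) :=
  have h := AlgStLib.isAlgStack_overCat U
  ⟨⟨h.isStack.1, fun _ R hR => h.isStack.2 R (Precoverage.toGrothendieck_mono QuotShLib.etalePrecoverage_le_fppf _ hR)⟩,
    h.diag, h.atlas⟩

/-- charts are continuous on points -/
theorem continuous_ofChart_of_atlas (h𝒳 : ASe 𝒳) {U : Over S} (x : FibCat.overCat U ⥤ᵇ 𝒳) :
    Continuous (AlgSt.Points.ofChart x) := by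
  refine continuous_def.2 fun O hO => ?_
  obtain ⟨V, y, hy, hy'⟩ := h𝒳.atlas
  obtain ⟨W, a, b, ⟨i⟩, -, hP, hs⟩ := exists_pair_chart h𝒳.isStack.1 y x (repByAlgSp1_of_with hy)
  have : Smooth b.left := hP _ etST_smooth hy
  have := hs hy'
  have e : AlgSt.Points.ofChart x ⁻¹' O = b.left '' (a.left ⁻¹' (AlgSt.Points.ofChart y ⁻¹' O)) := by
    ext s
    constructor
    · intro hsO
      obtain ⟨w, rfl⟩ := b.left.surjective s
      refine ⟨w, ?_, rfl⟩
      show AlgSt.Points.ofChart y (a.left w) ∈ O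
      rw [← ofChart_overMap, ← ofChart_congr i, ofChart_overMap]
      exact hsO
    · rintro ⟨w, hw, rfl⟩
      show AlgSt.Points.ofChart x (b.left w) ∈ O
      rw [← ofChart_overMap, ofChart_congr i, ofChart_overMap]
      exact hw
  rw [e]
  exact b.left.isOpenMap _ ((hO V y hy).preimage a.left.continuous)

/-- functors are continuous on points -/
theorem continuous_map_of_atlas (h𝒴 : ASe 𝒴) (f : 𝒳 ⥤ᵇ 𝒴) : Continuous (AlgSt.Points.map f) :=
  continuous_def.2 fun _ hO U x _ =>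
    (continuous_ofChart_of_atlas h𝒴 (BasedFunctor.comp x f)).isOpen_preimage _ hO

/-- 2-arrows into a fibre product over a slice are determined by the factors -/
def fpExtSlice {𝒱 𝒲 ℬ : AlgSt.Cat S} {Z : Over S} {F : 𝒱 ⥤ᵇ FibCat.overCat Z} {G : ℬ ⥤ᵇ FibCat.overCat Z}
    {a b : 𝒲 ⥤ᵇ FibCat.fp F G}
    (i : BasedFunctor.comp a (FibCat.fpFst F G) ≅ BasedFunctor.comp b (FibCat.fpFst F G))
    (j : BasedFunctor.comp a (FibCat.fpSnd F G) ≅ BasedFunctor.comp b (FibCat.fpSnd F G)) : a ≅ b :=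
  fpExt i j fun w => by
    obtain ⟨q₁, hq₁⟩ := map_iso_hom (b.obj w)
    obtain ⟨q₂, hq₂⟩ := map_iso_hom (a.obj w)
    apply (Over.forget Z).map_injective
    show (FibCat.overCat Z).p.map (_ ≫ _) = (FibCat.overCat Z).p.map (_ ≫ _)
    rw [Functor.map_comp, Functor.map_comp, FibCatRep.map_map, FibCatRep.map_map, map_app, map_app, hq₁, hq₂]
    simp [eqToHom_map]

/-- affine charts of finite type of the base change to an affine noetherian chart -/
theorem exists_chart_ft (h𝒳 : ASe 𝒳) (h𝒴 : ASe 𝒴) {f : 𝒳 ⥤ᵇ 𝒴}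
    (hqc : AlgSt.IsQuasiCompactMor Scheme.etalePrecoverage f)
    (hft : AlgSt.LocQ (AlgSp.LocP @LocallyOfFiniteType) f)
    {R : Type u} [CommRing R] (str : Spec (CommRingCat.of R) ⟶ S)
    (b : FibCat.overCat (Over.mk str) ⥤ᵇ 𝒴) (hb : RepByAlgSpWith (LocP @Smooth) b) :
    ∃ (C : Type u) (_ : CommRing C) (_ : Algebra R C) (_ : Algebra.FiniteType R C)
      (π : FibCat.overCat (algPt str C) ⥤ᵇ FibCat.fp f b),
      RepByAlgSpWith (LocP @Smooth) π ∧ RepByAlgSpWith AlgSp.IsSurjectiveMor π ∧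
      Nonempty (BasedFunctor.comp π (FibCat.fpSnd f b) ≅ AlgSt.overMap
        (Over.homMk (Spec.map (CommRingCat.ofHom (algebraMap R C))) rfl : algPt str C ⟶ Over.mk str)) := by
  have hZ : CompactSpace ↥(Over.mk str).left := inferInstanceAs (CompactSpace ↥(Spec (CommRingCat.of R)))
  obtain ⟨U, x, hUa, hx, hxs⟩ :=
    hqc _ (isAlgStack_overCat_etale (Over.mk str)) (AlgStLib.isQuasiCompact_overCat (Over.mk str)) b
  let π₀ := BasedFunctor.comp x (swapFun b f)
  obtain ⟨h₀, ⟨ih₀⟩⟩ : ∃ h₀ : U ⟶ Over.mk str,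
      Nonempty (BasedFunctor.comp π₀ (FibCat.fpSnd f b) ≅ AlgSt.overMap h₀) := by
    obtain ⟨V, rfl⟩ : ∃ V, U = V := ⟨U, rfl⟩
    let y := BasedFunctor.comp π₀ (FibCat.fpSnd f b)
    let o : (FibCat.overCat U).obj := Over.mk (𝟙 U)
    let γ : U ⟶ Over.mk str := eqToHom (y.w_obj o).symm ≫ (y.obj o).hom
    exact ⟨γ, nonempty_iso_of_top (isFibGrpd_overCat _) y (AlgSt.overMap γ)
      (Over.homMk (eqToHom (y.w_obj o)) (by
        show eqToHom (y.w_obj o) ≫ 𝟙 U ≫ eqToHom (y.w_obj o).symm ≫ (y.obj o).hom = _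
        erw [Category.id_comp, eqToHom_trans_assoc, eqToHom_refl, Category.id_comp])) rfl⟩
  obtain ⟨C, _, i, _, hi⟩ := exists_algPt_iso str h₀
  let π := BasedFunctor.comp (AlgSt.overMap i) π₀
  have hπ₀ : RepByAlgSpWith (LocP @Smooth) π₀ := repWith_comp_equiv_right hx (isEquivOver_swapFun b f)
  have hπ₀s : RepByAlgSpWith AlgSp.IsSurjectiveMor π₀ := repWith_comp_equiv_right hxs (isEquivOver_swapFun b f)
  have hie : FibCat.IsEquivOver (AlgSt.overMap i) :=
    ⟨AlgSt.overMap (inv i), ⟨AlgStLib.overMapComp i (inv i) ≪≫ eqToIso (congrArg AlgSt.overMap (IsIso.hom_inv_id i)) ≪≫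
        AlgStLib.overMapId _⟩,
      ⟨AlgStLib.overMapComp (inv i) i ≪≫
        eqToIso (congrArg AlgSt.overMap (IsIso.inv_hom_id i)) ≪≫ AlgStLib.overMapId _⟩⟩
  have hπ : RepByAlgSpWith (LocP @Smooth) π :=
    (repWith_iff_of_equiv _ π₀ π (AlgSt.overMap i) (BasedFunctor.id _) hie isEquivOver_id (Iso.refl _)).1 hπ₀
  have hπs : RepByAlgSpWith AlgSp.IsSurjectiveMor π :=
    (repWith_iff_of_equiv _ π₀ π (AlgSt.overMap i) (BasedFunctor.id _) hie isEquivOver_id (Iso.refl _)).1 hπ₀s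
  let h : algPt str C ⟶ Over.mk str := Over.homMk (Spec.map (CommRingCat.ofHom (algebraMap R C))) rfl
  let ih : BasedFunctor.comp π (FibCat.fpSnd f b) ≅ AlgSt.overMap h :=
    (Stk.restr (AlgSt.overMap i) _).mapIso ih₀ ≪≫ AlgStLib.overMapComp i h₀ ≪≫
      eqToIso (congrArg AlgSt.overMap hi)
  have : Algebra.FiniteType R C := by
    have h1 := prop_of_scheme_square st_lft h𝒳.isStack.1 h𝒴.isStack.1 hft (BasedFunctor.comp π (FibCat.fpFst f b)) b h
      ((Stk.restr π _).mapIso (FibCat.fpIso f b) ≪≫ (post _ b).mapIso ih) hb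
      (repWith_congr _ (fpExt (b := π) (Iso.refl _) ih.symm fun w => by
        show f.map (𝟙 _) ≫ (π.obj w).obj.iso.hom =
          ((π.obj w).obj.iso.hom ≫ b.map (ih.hom.toNatTrans.app w)) ≫ b.map (ih.inv.toNatTrans.app w)
        rw [f.toFunctor.map_id, Category.id_comp, Category.assoc, ← b.toFunctor.map_comp]
        erw [show ih.hom.toNatTrans.app w ≫ ih.inv.toNatTrans.app w = 𝟙 _ from
          congrArg (fun η => η.toNatTrans.app w) ih.hom_inv_id]
        exact ((congrArg ((π.obj w).obj.iso.hom ≫ ·) (b.toFunctor.map_id _)).trans (Category.comp_id _)).symm) hπ)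
    have h2 : LocallyOfFiniteType h.left := (locP_yon_iff etST_lft h).1 h1
    exact RingHom.finiteType_algebraMap.1 ((HasRingHomProperty.Spec_iff (P := @LocallyOfFiniteType)).1 h2)
  exact ⟨C, inferInstance, inferInstance, ‹_›, π, hπ, hπs, ⟨ih⟩⟩

section Chart

variable {Z U Q P : Over S} {f : 𝒳 ⥤ᵇ 𝒴} {b : FibCat.overCat Z ⥤ᵇ 𝒴} {h : U ⟶ Z} {k : Q ⟶ Z}
  (π : FibCat.overCat U ⥤ᵇ FibCat.fp f b) (ih : BasedFunctor.comp π (FibCat.fpSnd f b) ≅ AlgSt.overMap h)
  {p₁ : P ⟶ U} {p₂ : P ⟶ Q} (sq : IsPullback p₁ p₂ h k)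

/-- the chart of a base change -/
def bcChart : FibCat.overCat P ⥤ᵇ FibCat.fp (AlgSt.overMap k) (FibCat.fpSnd f b) :=
  FibCat.fpLift (AlgSt.overMap p₂) (BasedFunctor.comp (AlgSt.overMap p₁) π)
    (AlgStLib.overMapComp p₂ k ≪≫ eqToIso (congrArg AlgSt.overMap sq.w.symm) ≪≫
      (AlgStLib.overMapComp p₁ h).symm ≪≫ ((Stk.restr (AlgSt.overMap p₁) _).mapIso ih).symm)

theorem bcChart_saturated {V : Over S} (γ₁ γ₂ : V ⟶ P) (hγ : γ₁ ≫ p₂ = γ₂ ≫ p₂)
    (μ : BasedFunctor.comp (AlgSt.overMap (γ₁ ≫ p₁)) π ≅ BasedFunctor.comp (AlgSt.overMap (γ₂ ≫ p₁)) π) :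
    Nonempty (BasedFunctor.comp (AlgSt.overMap γ₁) (bcChart π ih sq) ≅
      BasedFunctor.comp (AlgSt.overMap γ₂) (bcChart π ih sq)) :=
  ⟨fpExtSlice (AlgStLib.overMapComp γ₁ p₂ ≪≫ eqToIso (congrArg AlgSt.overMap hγ) ≪≫
      (AlgStLib.overMapComp γ₂ p₂).symm)
    ((post _ π).mapIso (AlgStLib.overMapComp γ₁ p₁) ≪≫ μ ≪≫
      ((post _ π).mapIso (AlgStLib.overMapComp γ₂ p₁)).symm)⟩

theorem bcChart_surjective (h𝒳 : FibCat.IsFibGrpd 𝒳.p) (h𝒴 : FibCat.IsFibGrpd 𝒴.p)
    (hπ : RepByAlgSp1 π) (hπs : RepByAlgSpWith AlgSp.IsSurjectiveMor π)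
    (p : AlgSt.Points (FibCat.fp (AlgSt.overMap k) (FibCat.fpSnd f b))) :
    ∃ e, AlgSt.Points.ofChart (bcChart π ih sq) e = p := by
  have h𝒲 := isFibGrpd_fp h𝒳 (isFibGrpd_overCat Z) h𝒴 f b
  obtain ⟨V, P', r, rfl⟩ := exists_ofChart (isFibGrpd_fp (isFibGrpd_overCat Q) h𝒲 (isFibGrpd_overCat Z) _ _) p
  let yB := BasedFunctor.comp P' (FibCat.fpFst (AlgSt.overMap k) (FibCat.fpSnd f b))
  let o : (FibCat.overCat V).obj := Over.mk (𝟙 V)
  let γ : V ⟶ Q := eqToHom (yB.w_obj o).symm ≫ (yB.obj o).hom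
  obtain ⟨iγ⟩ : Nonempty (yB ≅ AlgSt.overMap γ) := nonempty_iso_of_top (isFibGrpd_overCat _) yB (AlgSt.overMap γ)
    (Over.homMk (eqToHom (yB.w_obj o)) (by
      show eqToHom (yB.w_obj o) ≫ 𝟙 V ≫ eqToHom (yB.w_obj o).symm ≫ (yB.obj o).hom = _
      erw [Category.id_comp, eqToHom_trans_assoc, eqToHom_refl, Category.id_comp])) rfl
  obtain ⟨W, a, b₁, ⟨i₁⟩, -, -, hS⟩ := exists_pair_chart h𝒲 π
    (BasedFunctor.comp P' (FibCat.fpSnd (AlgSt.overMap k) (FibCat.fpSnd f b))) hπ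
  have := hS hπs
  obtain ⟨w, rfl⟩ := b₁.left.surjective r
  have hcomm : a ≫ h = (b₁ ≫ γ) ≫ k := eq_of_overMap_iso
    ((AlgStLib.overMapComp a h).symm ≪≫ ((Stk.restr (AlgSt.overMap a) _).mapIso ih).symm ≪≫
      (post _ (FibCat.fpSnd f b)).mapIso i₁.symm ≪≫
      ((Stk.restr (AlgSt.overMap b₁) _).mapIso ((Stk.restr P' _).mapIso (FibCat.fpIso (AlgSt.overMap k)
        (FibCat.fpSnd f b)))).symm ≪≫
      (post _ (AlgSt.overMap k)).mapIso ((Stk.restr (AlgSt.overMap b₁) _).mapIso iγ ≪≫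
        AlgStLib.overMapComp b₁ γ) ≪≫ AlgStLib.overMapComp (b₁ ≫ γ) k)
  let ε := sq.lift a (b₁ ≫ γ) hcomm
  let i' : BasedFunctor.comp (AlgSt.overMap ε) (bcChart π ih sq) ≅ BasedFunctor.comp (AlgSt.overMap b₁) P' :=
    fpExtSlice (AlgStLib.overMapComp ε p₂ ≪≫ eqToIso (congrArg AlgSt.overMap (sq.lift_snd a (b₁ ≫ γ) hcomm)) ≪≫
        (AlgStLib.overMapComp b₁ γ).symm ≪≫ ((Stk.restr (AlgSt.overMap b₁) _).mapIso iγ).symm)
      ((post _ π).mapIso (AlgStLib.overMapComp ε p₁ ≪≫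
        eqToIso (congrArg AlgSt.overMap (sq.lift_fst a (b₁ ≫ γ) hcomm))) ≪≫ i₁.symm)
  exact ⟨ε.left w, by rw [← ofChart_overMap, ofChart_congr i', ofChart_overMap]⟩

theorem map_bcChart_fst (e : ↥P.left) :
    AlgSt.Points.map (FibCat.fpFst (AlgSt.overMap k) (FibCat.fpSnd f b))
      (AlgSt.Points.ofChart (bcChart π ih sq) e) =
      AlgSt.Points.ofChart (BasedFunctor.id (FibCat.overCat Q)) (p₂.left e) := by
  rw [map_ofChart, ← ofChart_overMap]
  rfl

/-- the two descriptions of the base change -/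
theorem exists_bc_comparison :
    ∃ M : FibCat.fp (AlgSt.overMap k) (FibCat.fpSnd f b) ⥤ᵇ FibCat.fp (BasedFunctor.comp (AlgSt.overMap k) b) f,
      Function.Bijective (AlgSt.Points.map M) ∧ ∀ p, AlgSt.Points.map (FibCat.fpFst _ f) (AlgSt.Points.map M p) =
        AlgSt.Points.map (FibCat.fpFst (AlgSt.overMap k) (FibCat.fpSnd f b)) p := by
  have : (BasedFunctor.id (FibCat.overCat Z)).toFunctor.Full := inferInstanceAs (𝟭 _).Full
  have : (BasedFunctor.id (FibCat.overCat Z)).toFunctor.Faithful := inferInstanceAs (𝟭 _).Faithful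
  let M₁ := fpMap (F := AlgSt.overMap k) (G := FibCat.fpFst b f) (AlgSt.overMap k) (FibCat.fpSnd f b)
    (BasedFunctor.id _) (swapFun f b) (BasedFunctor.id _) (Iso.refl _) (Iso.refl _)
  have hM₁ : FibCat.IsEquivOver M₁ := isEquivOver_fpMap _ _ _ _ _ _ _ isEquivOver_id (isEquivOver_swapFun f b)
  refine ⟨BasedFunctor.comp M₁ (pasteFun (AlgSt.overMap k) b f), ?_, fun p => ?_⟩
  · rw [show AlgSt.Points.map (BasedFunctor.comp M₁ (pasteFun (AlgSt.overMap k) b f)) =
      AlgSt.Points.map (pasteFun (AlgSt.overMap k) b f) ∘ AlgSt.Points.map M₁ from funext fun x => map_comp_points _ _ x]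
    exact (bijective_map_of_equiv (isEquivOver_pasteFun (AlgSt.overMap k) b f)).comp (bijective_map_of_equiv hM₁)
  · rw [← map_comp_points]
    rfl

end Chart

/-- closedness of the projection from the base change to an affine scheme over an affine noetherian chart -/
theorem isClosed_image_affine (h𝒳 : ASe 𝒳) (h𝒴 : ASe 𝒴) {f : 𝒳 ⥤ᵇ 𝒴}
    (hqc : AlgSt.IsQuasiCompactMor Scheme.etalePrecoverage f)
    (hft : AlgSt.LocQ (AlgSp.LocP @LocallyOfFiniteType) f) (hval : HasValExt f)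
    {R : Type u} [CommRing R] [IsNoetherianRing R] (str : Spec (CommRingCat.of R) ⟶ S)
    (b : FibCat.overCat (Over.mk str) ⥤ᵇ 𝒴) (hb : RepByAlgSpWith (LocP @Smooth) b)
    (B : Type u) [CommRing B] [Algebra R B]
    (T : Set (AlgSt.Points (FibCat.fp (BasedFunctor.comp (AlgSt.overMap
      (Over.homMk (Spec.map (CommRingCat.ofHom (algebraMap R B))) rfl : algPt str B ⟶ Over.mk str)) b) f)))
    (hT : IsClosed T) :
    IsClosed {s : ↥(algPt str B).left | ∃ q ∈ T, AlgSt.Points.map (FibCat.fpFst _ f) q =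
      AlgSt.Points.ofChart (BasedFunctor.id _) s} := by
  obtain ⟨C, _, _, _, π, hπ, hπs, ⟨ih⟩⟩ := exists_chart_ft h𝒳 h𝒴 hqc hft str b hb
  let h : algPt str C ⟶ Over.mk str := Over.homMk (Spec.map (CommRingCat.ofHom (algebraMap R C))) rfl
  let k : algPt str B ⟶ Over.mk str := Over.homMk (Spec.map (CommRingCat.ofHom (algebraMap R B))) rfl
  let pU : algPt str (C ⊗[R] B) ⟶ algPt str C := algPtMap str Algebra.TensorProduct.includeLeft
  let pB : algPt str (C ⊗[R] B) ⟶ algPt str B := algPtMap str Algebra.TensorProduct.includeRight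
  have sq : IsPullback pU pB h k := IsPullback.of_map (Over.forget S) (Over.OverMorphism.ext (by
      show Spec.map _ ≫ Spec.map _ = Spec.map _ ≫ Spec.map _
      rw [← Spec.map_comp, ← Spec.map_comp, ← CommRingCat.ofHom_comp, ← CommRingCat.ofHom_comp]
      exact congrArg (fun r => Spec.map (CommRingCat.ofHom r))
        (RingHom.ext fun r => ((Algebra.TensorProduct.includeLeft : C →ₐ[R] C ⊗[R] B).commutes r).trans
          ((Algebra.TensorProduct.includeRight : B →ₐ[R] C ⊗[R] B).commutes r).symm)))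
    (isPullback_SpecMap_of_isPushout _ _ _ _ (CommRingCat.isPushout_tensorProduct R C B))
  obtain ⟨M, hM, hMfst⟩ := exists_bc_comparison (f := f) (b := b) (k := k)
  have hg : ASe (FibCat.fp (BasedFunctor.comp (AlgSt.overMap k) b) f) :=
    isAlgStack_fp_of _ (isAlgStack_overCat_etale _) h𝒳 h𝒴 _ f
  let c := bcChart π ih sq
  have hE : IsClosed (AlgSt.Points.ofChart (BasedFunctor.comp c M) ⁻¹' T) :=
    hT.preimage (continuous_ofChart_of_atlas hg _)
  have hsat := isClosed_image_of_saturated h𝒳.isStack.1 h𝒴.isStack.1 hval str π hπ hπs ih B _ hE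
    fun V γ₁ γ₂ hγ ⟨μ⟩ v hv => by
      obtain ⟨i'⟩ := bcChart_saturated π ih sq γ₁ γ₂ hγ μ
      refine (congrArg (fun p => p ∈ T) ?_).mp hv
      rw [← ofChart_overMap, ← ofChart_overMap]
      exact ofChart_congr ((post _ M).mapIso i') v
  convert hsat using 1
  ext s
  constructor
  · rintro ⟨q, hq, hqs⟩
    obtain ⟨p, rfl⟩ := hM.2 q
    obtain ⟨e, rfl⟩ := bcChart_surjective π ih sq h𝒳.isStack.1 h𝒴.isStack.1 (repByAlgSp1_of_with hπ) hπs p
    refine ⟨e, ?_, ofChart_id_injective (U := algPt str B) ?_⟩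
    · rwa [map_ofChart] at hq
    · rw [← hqs, hMfst]
      exact (map_bcChart_fst π ih sq e).symm
  · rintro ⟨e, he, rfl⟩
    refine ⟨AlgSt.Points.ofChart (BasedFunctor.comp c M) e, he, ?_⟩
    rw [← map_ofChart c M, hMfst]
    exact map_bcChart_fst π ih sq e

end Groth.Agent.StkVal
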