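import Groth.Agent.StkVal.Lift
import Mathlib.RingTheory.Spectrum.Prime.RingHom
import Groth.Agent.ValLib.Noeth
import Groth.Agent.FpqcDescent.Immersion

/-!
# Closedness of images of saturated closed sets in base changes of a chart
-/

set_option autoImplicit false
set_option backward.isDefEq.respectTransparency false
set_option backward.isDefEq.respectTransparency.types false
universe u

noncomputable section

namespace Groth.Agent.StkVal

open CategoryTheory CategoryTheory.Limits AlgebraicGeometry Opposite Groth.Agent.FibCatRep TensorProduct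
  Groth.Agent.FibCat2Misc Groth.Agent.AlgSpLib Groth.Agent.StkBasic Groth.Agent.AlgStLib Groth.Agent.ValLib
open _root_.AlgSp _root_.AlgSt

variable {S : Scheme.{u}} {𝒳 𝒴 : AlgSt.Cat S}

variable {R C : Type u} [CommRing R] [IsNoetherianRing R] [CommRing C] [Algebra R C] [Algebra.FiniteType R C]

/-- images of saturated closed subsets are closed -/
theorem isClosed_image_of_saturated (h𝒳 : FibCat.IsFibGrpd 𝒳.p) (h𝒴 : FibCat.IsFibGrpd 𝒴.p) {f : 𝒳 ⥤ᵇ 𝒴}
    (hval : HasValExt f) (str : Spec (CommRingCat.of R) ⟶ S) {b : FibCat.overCat (Over.mk str) ⥤ᵇ 𝒴}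
    (π : FibCat.overCat (algPt str C) ⥤ᵇ FibCat.fp f b) (hπ : RepByAlgSpWith (LocP @Smooth) π)
    (hπs : RepByAlgSpWith AlgSp.IsSurjectiveMor π)
    (ih : BasedFunctor.comp π (FibCat.fpSnd f b) ≅ AlgSt.overMap
      (Over.homMk (Spec.map (CommRingCat.ofHom (algebraMap R C))) rfl : algPt str C ⟶ Over.mk str))
    (B : Type u) [CommRing B] [Algebra R B]
    (E : Set ↥(algPt str (C ⊗[R] B)).left) (hE : IsClosed E)
    (hsat : ∀ (V : Over S) (γ₁ γ₂ : V ⟶ algPt str (C ⊗[R] B)),
      γ₁ ≫ algPtMap str Algebra.TensorProduct.includeRight = γ₂ ≫ algPtMap str Algebra.TensorProduct.includeRight →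
      Nonempty (BasedFunctor.comp (AlgSt.overMap (γ₁ ≫ algPtMap str Algebra.TensorProduct.includeLeft)) π ≅
        BasedFunctor.comp (AlgSt.overMap (γ₂ ≫ algPtMap str Algebra.TensorProduct.includeLeft)) π) →
      ∀ v, γ₁.left v ∈ E → γ₂.left v ∈ E) :
    IsClosed ((algPtMap str (Algebra.TensorProduct.includeRight : B →ₐ[R] C ⊗[R] B)).left '' E) := by
  obtain ⟨J, hJ⟩ := (PrimeSpectrum.isClosed_iff_zeroLocus_ideal _).1 hE
  rw [← isOpen_compl_iff, isOpen_iff_forall_mem_open]
  intro z hz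
  let p : PrimeSpectrum B := z
  obtain ⟨B₀, hB₀, hempty⟩ := exists_fg_empty_fibre (R := R) (C := C) J p.asIdeal fun q hq hJq heq => by
    refine hz ⟨(⟨q, hq⟩ : PrimeSpectrum (C ⊗[R] B)), ?_, PrimeSpectrum.ext heq⟩
    rw [hJ]
    exact (PrimeSpectrum.mem_zeroLocus _ _).2 hJq
  have hB₀ft : Algebra.FiniteType R B₀ := (Subalgebra.fg_iff_finiteType B₀).1 hB₀
  have : IsNoetherianRing B₀ := Algebra.FiniteType.isNoetherianRing R B₀
  let δ : algPt str B ⟶ algPt str B₀ := algPtMap str B₀.val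
  let tm : algPt str (C ⊗[R] B) ⟶ algPt str (C ⊗[R] B₀) := algPtMap str (tMap B₀)
  let p₂ : algPt str (C ⊗[R] B₀) ⟶ algPt str B₀ := algPtMap str Algebra.TensorProduct.includeRight
  let p₁ : algPt str (C ⊗[R] B₀) ⟶ algPt str C := algPtMap str Algebra.TensorProduct.includeLeft
  let k : algPt str B₀ ⟶ Over.mk str := Over.homMk (Spec.map (CommRingCat.ofHom (algebraMap R B₀))) rfl
  let h : algPt str C ⟶ Over.mk str := Over.homMk (Spec.map (CommRingCat.ofHom (algebraMap R C))) rfl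
  have hl : tm ≫ p₁ = algPtMap str (Algebra.TensorProduct.includeLeft : C →ₐ[R] C ⊗[R] B) := by
    rw [algPtMap_comp]
    exact congrArg (algPtMap str) (AlgHom.ext fun x => rfl)
  have hr : tm ≫ p₂ = algPtMap str (Algebra.TensorProduct.includeRight : B →ₐ[R] C ⊗[R] B) ≫ δ := by
    rw [algPtMap_comp, algPtMap_comp]
    exact congrArg (algPtMap str) (AlgHom.ext fun x => rfl)
  have sq₀ : IsPullback p₁ p₂ h k := IsPullback.of_map (Over.forget S) (Over.OverMorphism.ext (by
      show Spec.map _ ≫ Spec.map _ = Spec.map _ ≫ Spec.map _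
      rw [← Spec.map_comp, ← Spec.map_comp, ← CommRingCat.ofHom_comp, ← CommRingCat.ofHom_comp]
      exact congrArg (fun r => Spec.map (CommRingCat.ofHom r))
        (RingHom.ext fun r => ((Algebra.TensorProduct.includeLeft : C →ₐ[R] C ⊗[R] B₀).commutes r).trans
          ((Algebra.TensorProduct.includeRight : B₀ →ₐ[R] C ⊗[R] B₀).commutes r).symm)))
    (isPullback_SpecMap_of_isPushout _ _ _ _ (CommRingCat.isPushout_tensorProduct R C B₀))
  let q : Spec (CommRingCat.of ((C ⊗[R] B) ⧸ J)) ⟶ (algPt str B₀).left :=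
    Spec.map (CommRingCat.ofHom (Ideal.Quotient.mk J)) ≫ (tm ≫ p₂).left
  have : IsLocallyNoetherian (algPt str B₀).left :=
    inferInstanceAs (IsLocallyNoetherian (Spec (CommRingCat.of B₀)))
  have : LocallyOfFiniteType p₂.left := by
    refine (HasRingHomProperty.Spec_iff (P := @LocallyOfFiniteType)).2 ?_
    let _ : Algebra B₀ (C ⊗[R] B₀) := Algebra.TensorProduct.rightAlgebra
    exact RingHom.finiteType_algebraMap.2 (show Algebra.FiniteType B₀ (C ⊗[R] B₀) from
      Algebra.FiniteType.equiv inferInstance (Algebra.TensorProduct.commRight R B₀ C))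
  have hG : ∀ e ∈ E, tm.left e ∈ PrimeSpectrum.zeroLocus ((J.comap (tMap B₀).toRingHom : Ideal _) : Set _) := by
    intro e he a ha
    rw [hJ] at he
    exact he ha
  have hnot : δ.left z ∉ closure (Set.range q) := fun hcl => by
    have : QuasiCompact q := quasiCompact_of_compactSpace q
    obtain ⟨y, hy⟩ := FpqcDescent.exists_specializes_of_mem_closure q hcl
    let e : ↥(algPt str (C ⊗[R] B)).left := Spec.map (CommRingCat.ofHom (Ideal.Quotient.mk J)) y
    have he : e ∈ E := by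
      rw [hJ]
      exact fun a ha => show Ideal.Quotient.mk J a ∈ (show PrimeSpectrum ((C ⊗[R] B) ⧸ J) from y).asIdeal by
        rw [Ideal.Quotient.eq_zero_iff_mem.2 ha]; exact zero_mem _
    have hy' : p₂.left (tm.left e) ⤳ δ.left z := hy
    by_cases hne : δ.left z = p₂.left (tm.left e)
    · exact hempty (show PrimeSpectrum (C ⊗[R] B₀) from tm.left e).asIdeal (PrimeSpectrum.isPrime _) (hG e he)
        (congrArg PrimeSpectrum.asIdeal hne.symm)
    obtain ⟨y₁, y₀, hsp, hy₀, V, γ₁, γ₂, v, hv₁, hv₂, hγ, ⟨μ⟩⟩ :=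
      exists_specialization h𝒳 h𝒴 hval π hπ hπs h ih k sq₀ (tm.left e) (δ.left z) hy' hne
    let V' : Over S := Over.mk (pullback.fst γ₁.left tm.left ≫ V.hom)
    let r₁ : V' ⟶ V := Over.homMk (pullback.fst γ₁.left tm.left) rfl
    let r₂ : V' ⟶ algPt str (C ⊗[R] B) := Over.homMk (pullback.snd γ₁.left tm.left) (by
      show pullback.snd _ _ ≫ (algPt str (C ⊗[R] B)).hom = pullback.fst _ _ ≫ V.hom
      rw [← Over.w γ₁, pullback.condition_assoc, Over.w tm])
    have hr12 : r₁ ≫ γ₁ = r₂ ≫ tm := Over.OverMorphism.ext pullback.condition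
    obtain ⟨v', hv'₁, hv'₂⟩ := Scheme.Pullback.exists_preimage_pullback (f := γ₁.left) (g := tm.left) v e hv₁
    have sqB : IsPullback (algPtMap str (Algebra.TensorProduct.includeLeft : C →ₐ[R] C ⊗[R] B))
        (algPtMap str (Algebra.TensorProduct.includeRight : B →ₐ[R] C ⊗[R] B)) h (δ ≫ k) := by
      refine IsPullback.of_map (Over.forget S) (by rw [← hl, Category.assoc, sq₀.w, reassoc_of% hr]) ?_
      have eB : (δ ≫ k).left = Spec.map (CommRingCat.ofHom (algebraMap R B)) := by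
        show Spec.map _ ≫ Spec.map _ = Spec.map _
        rw [← Spec.map_comp, ← CommRingCat.ofHom_comp]
        rfl
      show IsPullback _ _ h.left (δ ≫ k).left
      rw [eB]
      exact isPullback_SpecMap_of_isPushout _ _ _ _ (CommRingCat.isPushout_tensorProduct R C B)
    let pB : algPt str (C ⊗[R] B) ⟶ algPt str B := algPtMap str Algebra.TensorProduct.includeRight
    have hcomm : (r₁ ≫ γ₂ ≫ p₁) ≫ h = (r₂ ≫ pB) ≫ δ ≫ k := by
      rw [Category.assoc, Category.assoc, sq₀.w, ← reassoc_of% hγ, reassoc_of% hr12, Category.assoc,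
        reassoc_of% hr]
    let ε : V' ⟶ algPt str (C ⊗[R] B) := sqB.lift (r₁ ≫ γ₂ ≫ p₁) (r₂ ≫ pB) hcomm
    have hε₁ : ε ≫ algPtMap str Algebra.TensorProduct.includeLeft = r₁ ≫ γ₂ ≫ p₁ := sqB.lift_fst _ _ _
    have hε₂ : ε ≫ pB = r₂ ≫ pB := sqB.lift_snd _ _ _
    have hεE : ε.left v' ∈ E := hsat V' r₂ ε hε₂.symm
      ⟨(post _ π).mapIso (eqToIso (congrArg AlgSt.overMap
          (show r₂ ≫ algPtMap str Algebra.TensorProduct.includeLeft = r₁ ≫ γ₁ ≫ p₁ by
            rw [← hl, ← Category.assoc, ← hr12, Category.assoc])) ≪≫ (AlgStLib.overMapComp r₁ (γ₁ ≫ p₁)).symm) ≪≫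
        (Stk.restr (AlgSt.overMap r₁) _).mapIso μ ≪≫
        (post _ π).mapIso (AlgStLib.overMapComp r₁ (γ₂ ≫ p₁) ≪≫ eqToIso (congrArg AlgSt.overMap hε₁.symm))⟩
      v' (show r₂.left v' ∈ E from hv'₂.symm ▸ he)
    have hεtm : ε ≫ tm = r₁ ≫ γ₂ := sq₀.hom_ext (by rw [Category.assoc, hl, hε₁, Category.assoc])
      (by rw [Category.assoc, hr, reassoc_of% hε₂, Category.assoc, ← hγ, reassoc_of% hr12, hr])
    have hy₁ : y₁ = tm.left (ε.left v') := by
      rw [← hv₂, ← hv'₁]
      exact (congrArg (fun t : V' ⟶ algPt str (C ⊗[R] B₀) => t.left v') hεtm).symm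
    refine hempty (show PrimeSpectrum (C ⊗[R] B₀) from y₀).asIdeal (PrimeSpectrum.isPrime _)
      (hsp.mem_closed (PrimeSpectrum.isClosed_zeroLocus _) (hy₁ ▸ hG _ hεE)) ?_
    exact congrArg PrimeSpectrum.asIdeal hy₀
  refine ⟨δ.left ⁻¹' (closure (Set.range q))ᶜ, ?_, isClosed_closure.isOpen_compl.preimage δ.left.continuous, hnot⟩
  rintro w hw ⟨e, he, rfl⟩
  rw [hJ] at he
  obtain ⟨y, hy⟩ := (_root_.range_comap_of_surjective _ (Ideal.Quotient.mk J) Ideal.Quotient.mk_surjective).ge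
    (show (show PrimeSpectrum (C ⊗[R] B) from e) ∈ PrimeSpectrum.zeroLocus ((RingHom.ker (Ideal.Quotient.mk J) : Ideal _) : Set _)
      by rw [Ideal.mk_ker]; exact he)
  refine hw (subset_closure ⟨y, ?_⟩)
  show (tm ≫ p₂).left _ = _
  rw [hr]
  exact congrArg (fun t => δ.left ((algPtMap str (Algebra.TensorProduct.includeRight : B →ₐ[R] C ⊗[R] B)).left t)) hy

end Groth.Agent.StkVal
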