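import Groth.Agent.AlgStLib.PointsBasic
import Groth.Agent.AlgStLib.AlgClosedLift
import Groth.Agent.DvrDom.Scheme
import Groth.Agent.AlgStLib.Squares

/-!
# Specialisations lifted by the valuative criterion for functors of stacks
-/

set_option autoImplicit false
set_option backward.isDefEq.respectTransparency false
set_option backward.isDefEq.respectTransparency.types false
universe u

noncomputable section

namespace Groth.Agent.StkVal

open CategoryTheory CategoryTheory.Limits AlgebraicGeometry Opposite Groth.Agent.FibCatRep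
  Groth.Agent.FibCat2Misc Groth.Agent.AlgSpLib Groth.Agent.StkBasic Groth.Agent.AlgStLib
open _root_.AlgSp _root_.AlgSt

variable {S : Scheme.{u}} {𝒳 𝒴 : AlgSt.Cat S}

/-- isomorphic functors of slices come from equal morphisms -/
theorem eq_of_overMap_iso {U V : Over S} {α β : V ⟶ U} (i : AlgSt.overMap α ≅ AlgSt.overMap β) : α = β := by
  let m : (Over.map α).obj (Over.mk (𝟙 V)) ⟶ (Over.map β).obj (Over.mk (𝟙 V)) :=
    i.hom.toNatTrans.app (Over.mk (𝟙 V))
  have hm : m.left = eqToHom rfl := map_app i.hom (Over.mk (𝟙 V))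
  have := Over.w m
  rw [hm] at this
  simpa using this.symm

/-- the valuative criterion with extensions -/
def HasValExt (f : 𝒳 ⥤ᵇ 𝒴) : Prop :=
  ∀ (R : Type u) [CommRing R] [IsDomain R] [IsDiscreteValuationRing R]
    (sR : Spec (CommRingCat.of R) ⟶ S)
    (a : FibCat.overCat (Over.mk (Spec.map (CommRingCat.ofHom (algebraMap R (FractionRing R))) ≫ sR)) ⥤ᵇ 𝒳)
    (b : FibCat.overCat (Over.mk sR) ⥤ᵇ 𝒴)
    (α : BasedFunctor.comp a f ≅
      BasedFunctor.comp (AlgSt.overMap (Over.homMk (Spec.map (CommRingCat.ofHom (algebraMap R (FractionRing R)))) rfl :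
        Over.mk (Spec.map (CommRingCat.ofHom (algebraMap R (FractionRing R))) ≫ sR) ⟶ Over.mk sR)) b),
    ∃ (R' : Type u) (_ : CommRing R') (_ : IsDomain R') (_ : IsDiscreteValuationRing R') (φ : R →+* R')
      (_ : Function.Injective φ) (_ : IsLocalHom φ)
      (gψ : (Over.mk (Spec.map (CommRingCat.ofHom (algebraMap R' (FractionRing R'))) ≫
              Spec.map (CommRingCat.ofHom φ) ≫ sR) : Over S) ⟶
            Over.mk (Spec.map (CommRingCat.ofHom (algebraMap R (FractionRing R))) ≫ sR))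
      (c : FibCat.overCat (Over.mk (Spec.map (CommRingCat.ofHom φ) ≫ sR)) ⥤ᵇ FibCat.fp f b),
      gψ ≫ (Over.homMk (Spec.map (CommRingCat.ofHom (algebraMap R (FractionRing R)))) rfl :
          Over.mk (Spec.map (CommRingCat.ofHom (algebraMap R (FractionRing R))) ≫ sR) ⟶ Over.mk sR) =
        (Over.homMk (Spec.map (CommRingCat.ofHom (algebraMap R' (FractionRing R')))) rfl :
            Over.mk (Spec.map (CommRingCat.ofHom (algebraMap R' (FractionRing R'))) ≫
              Spec.map (CommRingCat.ofHom φ) ≫ sR) ⟶ Over.mk (Spec.map (CommRingCat.ofHom φ) ≫ sR)) ≫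
          (Over.homMk (Spec.map (CommRingCat.ofHom φ)) rfl :
            Over.mk (Spec.map (CommRingCat.ofHom φ) ≫ sR) ⟶ Over.mk sR) ∧
      Nonempty (BasedFunctor.comp c (FibCat.fpSnd f b) ≅
        AlgSt.overMap (Over.homMk (Spec.map (CommRingCat.ofHom φ)) rfl :
          Over.mk (Spec.map (CommRingCat.ofHom φ) ≫ sR) ⟶ Over.mk sR)) ∧
      Nonempty (BasedFunctor.comp
          (AlgSt.overMap (Over.homMk (Spec.map (CommRingCat.ofHom (algebraMap R' (FractionRing R')))) rfl :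
            Over.mk (Spec.map (CommRingCat.ofHom (algebraMap R' (FractionRing R'))) ≫
              Spec.map (CommRingCat.ofHom φ) ≫ sR) ⟶ Over.mk (Spec.map (CommRingCat.ofHom φ) ≫ sR))) c ≅
        BasedFunctor.comp (AlgSt.overMap gψ)
          (FibCat.fpLift a
            (AlgSt.overMap (Over.homMk (Spec.map (CommRingCat.ofHom (algebraMap R (FractionRing R)))) rfl :
              Over.mk (Spec.map (CommRingCat.ofHom (algebraMap R (FractionRing R))) ≫ sR) ⟶ Over.mk sR)) α))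

/-- lifting a specialisation in the base to the chart of a base change -/
theorem exists_specialization (h𝒳 : FibCat.IsFibGrpd 𝒳.p) (h𝒴 : FibCat.IsFibGrpd 𝒴.p) {f : 𝒳 ⥤ᵇ 𝒴}
    (hval : HasValExt f) {Z U Q P : Over S} {b : FibCat.overCat Z ⥤ᵇ 𝒴}
    (π : FibCat.overCat U ⥤ᵇ FibCat.fp f b) (hπ : RepByAlgSpWith (LocP @Smooth) π)
    (hπs : RepByAlgSpWith AlgSp.IsSurjectiveMor π) (h : U ⟶ Z)
    (ih : BasedFunctor.comp π (FibCat.fpSnd f b) ≅ AlgSt.overMap h) (k : Q ⟶ Z) [IsLocallyNoetherian Q.left]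
    {p₁ : P ⟶ U} {p₂ : P ⟶ Q} (sq : IsPullback p₁ p₂ h k) [LocallyOfFiniteType p₂.left]
    (u : ↥P.left) (z₀ : ↥Q.left) (hsp : p₂.left u ⤳ z₀) (hne : z₀ ≠ p₂.left u) :
    ∃ y₁ y₀ : ↥P.left, y₁ ⤳ y₀ ∧ p₂.left y₀ = z₀ ∧
      ∃ (V : Over S) (γ₁ γ₂ : V ⟶ P) (v : ↥V.left), γ₁.left v = u ∧ γ₂.left v = y₁ ∧ γ₁ ≫ p₂ = γ₂ ≫ p₂ ∧
        Nonempty (BasedFunctor.comp (AlgSt.overMap (γ₁ ≫ p₁)) π ≅
          BasedFunctor.comp (AlgSt.overMap (γ₂ ≫ p₁)) π) := by
  obtain ⟨A, g, hA, hg, hgen⟩ := DvrDom.exists_dvr_through p₂.left u z₀ hsp hne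
  let sR := g ≫ Q.hom
  let KA := Over.mk (Spec.map (CommRingCat.ofHom (algebraMap A (FractionRing A))) ≫ sR)
  let gen : KA ⟶ Over.mk sR := Over.homMk (Spec.map (CommRingCat.ofHom (algebraMap A (FractionRing A)))) rfl
  let e := FractionRing.algEquiv A (P.left.residueField u)
  let φK : Spec (CommRingCat.of (FractionRing A)) ⟶ Spec (P.left.residueField u) :=
    Spec.map (CommRingCat.ofHom e.symm.toRingEquiv.toRingHom)
  have hφK : φK ≫ Spec.map (CommRingCat.ofHom A.subtype) =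
      Spec.map (CommRingCat.ofHom (algebraMap A (FractionRing A))) := by
    show Spec.map (CommRingCat.ofHom e.symm.toRingEquiv.toRingHom) ≫ Spec.map (CommRingCat.ofHom A.subtype) = _
    rw [← Spec.map_comp, ← CommRingCat.ofHom_comp]
    congr 2
    exact RingHom.ext fun x => e.symm.commutes x
  have hptw : (φK ≫ P.left.fromSpecResidueField u) ≫ p₂.left =
      Spec.map (CommRingCat.ofHom (algebraMap A (FractionRing A))) ≫ g := by
    rw [Category.assoc, ← hgen, reassoc_of% hφK]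
  let pt : KA ⟶ P := Over.homMk (φK ≫ P.left.fromSpecResidueField u) (by
    show _ = Spec.map _ ≫ g ≫ Q.hom
    rw [← reassoc_of% hptw, Over.w p₂, Category.assoc])
  let g' : Over.mk sR ⟶ Q := Over.homMk g rfl
  have hw : pt ≫ p₂ = gen ≫ g' := Over.OverMorphism.ext hptw
  let κ : Over.mk sR ⟶ Z := g' ≫ k
  let Φ := BasedFunctor.comp (AlgSt.overMap (pt ≫ p₁)) π
  let a := BasedFunctor.comp Φ (FibCat.fpFst f b)
  let b' := BasedFunctor.comp (AlgSt.overMap κ) b
  have hκ : (pt ≫ p₁) ≫ h = gen ≫ κ := by rw [Category.assoc, sq.w, reassoc_of% hw]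
  let j : BasedFunctor.comp Φ (FibCat.fpSnd f b) ≅ BasedFunctor.comp (AlgSt.overMap gen) (AlgSt.overMap κ) :=
    (Stk.restr (AlgSt.overMap (pt ≫ p₁)) _).mapIso ih ≪≫ AlgStLib.overMapComp _ h ≪≫
      eqToIso (congrArg AlgSt.overMap hκ) ≪≫ (AlgStLib.overMapComp gen κ).symm
  let α : BasedFunctor.comp a f ≅ BasedFunctor.comp (AlgSt.overMap gen) b' :=
    (Stk.restr Φ _).mapIso (FibCat.fpIso f b) ≪≫ (post _ b).mapIso j
  obtain ⟨R', _, _, _, φ, _, hloc, gψ, c, hgψ, ⟨ic⟩, ⟨iη⟩⟩ := hval A sR a b' α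
  let A' := Over.mk (Spec.map (CommRingCat.ofHom φ) ≫ sR)
  let K' := Over.mk (Spec.map (CommRingCat.ofHom (algebraMap R' (FractionRing R'))) ≫
    Spec.map (CommRingCat.ofHom φ) ≫ sR)
  let gen' : K' ⟶ A' := Over.homMk (Spec.map (CommRingCat.ofHom (algebraMap R' (FractionRing R')))) rfl
  let ext' : A' ⟶ Over.mk sR := Over.homMk (Spec.map (CommRingCat.ofHom φ)) rfl
  let N : FibCat.fp f b' ⥤ᵇ FibCat.fp f b := FibCat.fpLift (FibCat.fpFst f b')
    (BasedFunctor.comp (FibCat.fpSnd f b') (AlgSt.overMap κ)) (FibCat.fpIso f b')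
  let L₀ := FibCat.fpLift a (AlgSt.overMap gen) α
  let iΦ : Φ ≅ BasedFunctor.comp L₀ N := fpExt (Iso.refl _) j fun w => by
    show f.map (𝟙 _) ≫ (((BasedNatTrans.forgetful _ _).mapIso α).app w).hom =
      (Φ.obj w).obj.iso.hom ≫ b.map (j.hom.toNatTrans.app w)
    rw [f.toFunctor.map_id, Category.id_comp]
    rfl
  let l := BasedFunctor.comp c N
  obtain ⟨W, a₁, b₁, ⟨i₁⟩, -, hP, hS⟩ := exists_pair_chart (isFibGrpd_fp h𝒳 (isFibGrpd_overCat Z) h𝒴 f b) π l
    (repByAlgSp1_of_with hπ)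
  have : Smooth b₁.left := hP _ etST_smooth hπ
  have : Surjective b₁.left := hS hπs
  -- the chart of the pullback
  let j₂ : BasedFunctor.comp (AlgSt.overMap (b₁ ≫ ext')) (AlgSt.overMap κ) ≅
      BasedFunctor.comp (AlgSt.overMap a₁) (AlgSt.overMap h) :=
    (post _ (AlgSt.overMap κ)).mapIso (AlgStLib.overMapComp b₁ ext').symm ≪≫
      (Stk.restr (AlgSt.overMap b₁) _).mapIso ((post _ (AlgSt.overMap κ)).mapIso ic.symm) ≪≫
      (post _ (FibCat.fpSnd f b)).mapIso i₁ ≪≫ (Stk.restr (AlgSt.overMap a₁) _).mapIso ih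
  have hcomm : a₁ ≫ h = (b₁ ≫ ext' ≫ g') ≫ k := eq_of_overMap_iso
    ((AlgStLib.overMapComp a₁ h).symm ≪≫ j₂.symm ≪≫ AlgStLib.overMapComp (b₁ ≫ ext') κ ≪≫
      eqToIso (congrArg AlgSt.overMap (by simp [κ])))
  let m : W ⟶ P := sq.lift a₁ (b₁ ≫ ext' ≫ g') hcomm
  let η : ↥A'.left := gen'.left (IsLocalRing.closedPoint (FractionRing R') : PrimeSpectrum (FractionRing R'))
  let cl : ↥A'.left := (IsLocalRing.closedPoint R' : PrimeSpectrum R')
  obtain ⟨w₀, hw₀⟩ := b₁.left.surjective cl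
  have hspec : η ⤳ b₁.left w₀ := hw₀ ▸ (IsLocalRing.specializes_closedPoint _)
  obtain ⟨w₁, hw₁s, hw₁⟩ := Flat.generalizingMap b₁.left hspec
  refine ⟨m.left w₁, m.left w₀, hw₁s.map m.left.continuous, ?_, ?_⟩
  · have e1 : m.left ≫ p₂.left = b₁.left ≫ ext'.left ≫ g := congrArg (fun t : W ⟶ Q => t.left) (sq.lift_snd a₁ (b₁ ≫ ext' ≫ g') hcomm)
    rw [← Scheme.Hom.comp_apply, e1, Scheme.Hom.comp_apply, Scheme.Hom.comp_apply, hw₀, ← hg]
    exact congrArg g (IsLocalRing.comap_closedPoint φ)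
  let V : Over S := Over.mk (pullback.fst b₁.left gen'.left ≫ W.hom)
  let q₁ : V ⟶ W := Over.homMk (pullback.fst b₁.left gen'.left) rfl
  let q₂ : V ⟶ K' := Over.homMk (pullback.snd b₁.left gen'.left) (by
    show pullback.snd _ _ ≫ K'.hom = pullback.fst _ _ ≫ W.hom
    rw [← Over.w b₁, pullback.condition_assoc, Over.w gen'])
  have hq : q₁ ≫ b₁ = q₂ ≫ gen' := Over.OverMorphism.ext pullback.condition
  obtain ⟨v, hv, -⟩ := Scheme.Pullback.exists_preimage_pullback (f := b₁.left) (g := gen'.left) w₁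
    (IsLocalRing.closedPoint (FractionRing R') : PrimeSpectrum (FractionRing R')) hw₁
  refine ⟨V, (q₂ ≫ gψ) ≫ pt, q₁ ≫ m, v, ?_, ?_, ?_, ⟨?_⟩⟩
  · show (P.left.fromSpecResidueField u) (φK (gψ.left (q₂.left v))) = u
    exact P.left.fromSpecResidueField_apply u _
  · show m.left (q₁.left v) = _
    exact congrArg m.left hv
  · rw [Category.assoc _ pt, hw, Category.assoc _ m, show m ≫ p₂ = b₁ ≫ ext' ≫ g' from sq.lift_snd _ _ _,
      reassoc_of% hq, Category.assoc, reassoc_of% hgψ]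
  have e1 : (q₁ ≫ m) ≫ p₁ = q₁ ≫ a₁ := by rw [Category.assoc, sq.lift_fst]
  exact (post _ π).mapIso (eqToIso (congrArg AlgSt.overMap (Category.assoc (q₂ ≫ gψ) pt p₁)) ≪≫
      (AlgStLib.overMapComp (q₂ ≫ gψ) (pt ≫ p₁)).symm) ≪≫
    (Stk.restr (AlgSt.overMap (q₂ ≫ gψ)) _).mapIso iΦ ≪≫
    (post _ (BasedFunctor.comp L₀ N)).mapIso (AlgStLib.overMapComp q₂ gψ).symm ≪≫
    (Stk.restr (AlgSt.overMap q₂) _).mapIso ((post _ N).mapIso iη.symm) ≪≫
    (post _ l).mapIso (AlgStLib.overMapComp q₂ gen' ≪≫ eqToIso (congrArg AlgSt.overMap hq.symm) ≪≫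
      (AlgStLib.overMapComp q₁ b₁).symm) ≪≫
    (Stk.restr (AlgSt.overMap q₁) _).mapIso i₁ ≪≫
    (post _ π).mapIso (AlgStLib.overMapComp q₁ a₁ ≪≫ eqToIso (congrArg AlgSt.overMap e1.symm))

end Groth.Agent.StkVal
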