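import Groth.Agent.StkVal.Affine

/-!
# The valuative criterion for universally closed functors of locally noetherian stacks
-/

set_option autoImplicit false
set_option backward.isDefEq.respectTransparency false
set_option backward.isDefEq.respectTransparency.types false
universe u

noncomputable section

namespace Groth.Agent.StkVal

open CategoryTheory CategoryTheory.Limits AlgebraicGeometry Opposite Groth.Agent.FibCatRep TensorProduct
  Groth.Agent.FibCat2Misc Groth.Agent.AlgSpLib Groth.Agent.StkBasic Groth.Agent.AlgStLib Groth.Agent.ValLib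
open _root_.AlgSp _root_.AlgSt

variable {S : Scheme.{u}} {𝒳 𝒴 : AlgSt.Cat S}

local notation "ASe" => IsAlgStack Scheme.etalePrecoverage

/-- closed subsets of a base change seen over a chart isomorphic to another description -/
theorem exists_transfer (h𝒳 : ASe 𝒳) (h𝒴 : ASe 𝒴) {f : 𝒳 ⥤ᵇ 𝒴} {𝒵 : AlgSt.Cat S} (h𝒵 : ASe 𝒵)
    (g : 𝒵 ⥤ᵇ 𝒴) {W : Over S} (σ : FibCat.overCat W ⥤ᵇ 𝒵) (g' : FibCat.overCat W ⥤ᵇ 𝒴)
    (i : BasedFunctor.comp σ g ≅ g') (T : Set (AlgSt.Points (FibCat.fp g f))) (hT : IsClosed T) :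
    ∃ T' : Set (AlgSt.Points (FibCat.fp g' f)), IsClosed T' ∧ ∀ s,
      (∃ q ∈ T', AlgSt.Points.map (FibCat.fpFst g' f) q = AlgSt.Points.ofChart (BasedFunctor.id _) s) ↔
        ∃ q ∈ T, AlgSt.Points.map (FibCat.fpFst g f) q = AlgSt.Points.ofChart σ s := by
  have : (BasedFunctor.id 𝒴).toFunctor.Full := inferInstanceAs (𝟭 _).Full
  have : (BasedFunctor.id 𝒴).toFunctor.Faithful := inferInstanceAs (𝟭 _).Faithful
  let E₂ := fpMap (F := g') (G := f) (BasedFunctor.comp σ g) f (BasedFunctor.id _) (BasedFunctor.id _)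
    (BasedFunctor.id _) i (Iso.refl _)
  have hE₂ : FibCat.IsEquivOver E₂ := isEquivOver_fpMap _ _ _ _ _ _ _ isEquivOver_id isEquivOver_id
  let E₁ := pasteFun σ g f
  have hb : Function.Bijective (AlgSt.Points.map (BasedFunctor.comp E₁ E₂)) := by
    rw [show AlgSt.Points.map (BasedFunctor.comp E₁ E₂) = AlgSt.Points.map E₂ ∘ AlgSt.Points.map E₁ from
      funext fun x => map_comp_points _ _ x]
    exact (bijective_map_of_equiv hE₂).comp (bijective_map_of_equiv (isEquivOver_pasteFun σ g f))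
  obtain ⟨k₁, hk₁, -, ⟨j₁⟩⟩ := isEquivOver_symm (isEquivOver_pasteFun σ g f)
  obtain ⟨k₂, hk₂, -, ⟨j₂⟩⟩ := isEquivOver_symm hE₂
  let back := BasedFunctor.comp (BasedFunctor.comp k₂ k₁) (FibCat.fpSnd σ (FibCat.fpFst g f))
  have hfp : ASe (FibCat.fp g f) := isAlgStack_fp_of _ h𝒵 h𝒳 h𝒴 g f
  have hcomp : ∀ q, AlgSt.Points.map E₂ (AlgSt.Points.map E₁
      (AlgSt.Points.map (BasedFunctor.comp k₂ k₁) q)) = q := fun q => by
    rw [map_comp_points, ← map_comp_points k₁ E₁, map_congr_points j₁, map_id_points, ← map_comp_points,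
      map_congr_points j₂, map_id_points]
  have hfst : ∀ w, AlgSt.Points.map (FibCat.fpFst g' f) (AlgSt.Points.map (BasedFunctor.comp E₁ E₂) w) =
      AlgSt.Points.map (FibCat.fpFst σ (FibCat.fpFst g f)) w := fun w => by
    rw [← map_comp_points]
    rfl
  refine ⟨AlgSt.Points.map back ⁻¹' T, hT.preimage (continuous_map_of_atlas hfp back), fun s => ⟨?_, ?_⟩⟩
  · rintro ⟨q, hq, hqs⟩
    refine ⟨_, hq, ?_⟩
    let w := AlgSt.Points.map (BasedFunctor.comp k₂ k₁) q
    have hw : AlgSt.Points.map (BasedFunctor.comp E₁ E₂) w = q := (map_comp_points _ _ w).trans (hcomp q)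
    have h1 : AlgSt.Points.map (FibCat.fpFst σ (FibCat.fpFst g f)) w =
        AlgSt.Points.ofChart (BasedFunctor.id _) s := by rw [← hfst, hw, hqs]
    show AlgSt.Points.map (FibCat.fpFst g f) (AlgSt.Points.map back q) = _
    rw [map_comp_points, ← map_comp_points (FibCat.fpSnd σ (FibCat.fpFst g f)),
      ← map_congr_points (FibCat.fpIso σ (FibCat.fpFst g f)), map_comp_points, h1, map_ofChart]
    rfl
  · rintro ⟨q, hq, hqs⟩
    obtain ⟨w, hw₁, hw₂⟩ := exists_points_fp hfp.isStack.1 h𝒵.isStack.1 (isFibGrpd_overCat W)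
      (FibCat.fpFst g f) σ (AlgSt.Points.ofChart (BasedFunctor.id _) s) q (by rw [map_ofChart, hqs]; rfl)
    refine ⟨AlgSt.Points.map (BasedFunctor.comp E₁ E₂) w, ?_, by rw [hfst, hw₁]⟩
    show AlgSt.Points.map back _ ∈ T
    have : AlgSt.Points.map (BasedFunctor.comp k₂ k₁) (AlgSt.Points.map (BasedFunctor.comp E₁ E₂) w) = w :=
      hb.1 ((map_comp_points _ _ _).trans (hcomp _))
    rw [map_comp_points, this, hw₂]
    exact hq

/-- universal closedness from the valuative criterion -/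
theorem isUnivClosed_of_hasValExt (h𝒳 : ASe 𝒳) (h𝒴 : ASe 𝒴)
    (hn : AlgSt.SmoothLocally (fun T => IsLocallyNoetherian T) 𝒴) {f : 𝒳 ⥤ᵇ 𝒴}
    (hqc : AlgSt.IsQuasiCompactMor Scheme.etalePrecoverage f)
    (hft : AlgSt.LocQ (AlgSp.LocP @LocallyOfFiniteType) f) (hval : HasValExt f) :
    AlgSt.IsUnivClosed Scheme.etalePrecoverage f := by
  intro 𝒵 h𝒵 g T hT
  obtain ⟨V, y, hy, hys⟩ := h𝒴.atlas
  have : IsLocallyNoetherian V.left := hn V y hy
  refine isOpen_compl_iff.1 (AlgSt.Points.isOpen_iff.2 fun V' v _ => ?_)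
  rw [Set.preimage_compl, isOpen_compl_iff]
  obtain ⟨W, a, b₁, ⟨i₁⟩, -, hP, hS⟩ := exists_pair_chart h𝒴.isStack.1 y (BasedFunctor.comp v g) (repByAlgSp1_of_with hy)
  have : Smooth b₁.left := hP _ etST_smooth hy
  have := hS hys
  rw [← (b₁.left.isOpenMap.isQuotientMap b₁.left.continuous b₁.left.surjective).isClosed_preimage]
  rw [← isOpen_compl_iff, isOpen_iff_forall_mem_open]
  intro w hw
  obtain ⟨O, hO, hwO, -⟩ := exists_isAffineOpen_mem_and_subset (show a.left w ∈ (⊤ : V.left.Opens) from trivial)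
  obtain ⟨W₁, hW₁, hwW₁, hW₁O⟩ := exists_isAffineOpen_mem_and_subset (show w ∈ a.left ⁻¹ᵁ O from hwO)
  let A := Γ(V.left, O)
  let B := Γ(W.left, W₁)
  have : IsNoetherianRing A := IsLocallyNoetherian.component_noetherian ⟨O, hO⟩
  let φ : A ⟶ B := a.left.appLE O W₁ hW₁O
  let _ : Algebra A B := φ.hom.toAlgebra
  let str : Spec (CommRingCat.of A) ⟶ S := hO.fromSpec ≫ V.hom
  let j : Over.mk str ⟶ V := Over.homMk hO.fromSpec rfl
  let k : algPt str B ⟶ Over.mk str := Over.homMk (Spec.map (CommRingCat.ofHom (algebraMap A B))) rfl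
  have hφ : Spec.map (CommRingCat.ofHom (algebraMap A B)) ≫ hO.fromSpec = hW₁.fromSpec ≫ a.left :=
    IsAffineOpen.SpecMap_appLE_fromSpec a.left hO hW₁ hW₁O
  let ιW : algPt str B ⟶ W := Over.homMk hW₁.fromSpec (by
    show _ = Spec.map _ ≫ hO.fromSpec ≫ V.hom
    rw [reassoc_of% hφ, Over.w a])
  have hj : (k ≫ j : algPt str B ⟶ V) = ιW ≫ a := Over.OverMorphism.ext hφ
  let b := BasedFunctor.comp (AlgSt.overMap j) y
  have hjs : RepByAlgSpWith (LocP @Smooth) b := by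
    have : Etale j.left := inferInstanceAs (Etale hO.fromSpec)
    exact repWith_comp (isFibGrpd_overCat _) (isFibGrpd_overCat _) cls_smooth.bc cls_smooth.comp cls_smooth.loc
      (repWith_smooth_overMap j) hy
  let i : BasedFunctor.comp (BasedFunctor.comp (AlgSt.overMap (ιW ≫ b₁)) v) g ≅
      BasedFunctor.comp (AlgSt.overMap k) b :=
    (post _ (BasedFunctor.comp v g)).mapIso (AlgStLib.overMapComp ιW b₁).symm ≪≫
      (Stk.restr (AlgSt.overMap ιW) _).mapIso i₁ ≪≫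
      (post _ y).mapIso (AlgStLib.overMapComp ιW a ≪≫ eqToIso (congrArg AlgSt.overMap hj.symm) ≪≫
        (AlgStLib.overMapComp k j).symm)
  obtain ⟨T', hT', hiff⟩ := exists_transfer h𝒳 h𝒴 h𝒵 g _ _ i T hT
  have hcl := isClosed_image_affine h𝒳 h𝒴 hqc hft hval str b hjs B T' hT'
  have key : hW₁.fromSpec ⁻¹' (b₁.left ⁻¹' (AlgSt.Points.ofChart v ⁻¹' (AlgSt.Points.map (FibCat.fpFst g f) '' T))) =
      {s | ∃ q ∈ T', AlgSt.Points.map (FibCat.fpFst _ f) q = AlgSt.Points.ofChart (BasedFunctor.id _) s} := by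
    ext s
    refine Iff.trans ?_ (hiff s).symm
    rw [ofChart_overMap]
    rfl
  refine ⟨hW₁.fromSpec '' {s | ∃ q ∈ T', AlgSt.Points.map (FibCat.fpFst _ f) q = AlgSt.Points.ofChart (BasedFunctor.id _) s}ᶜ, ?_,
    hW₁.fromSpec.isOpenEmbedding.isOpenMap _ hcl.isOpen_compl, ?_⟩
  · rintro _ ⟨s, hs, rfl⟩ hmem
    exact hs (key.le hmem)
  · obtain ⟨s, rfl⟩ : w ∈ Set.range hW₁.fromSpec := hW₁.range_fromSpec ▸ hwW₁
    exact ⟨s, fun hs => hw (key.ge hs), rfl⟩

end Groth.Agent.StkVal
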